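import Mathlib
import Cfsg.Agent.TcData.Suz.Ch.Defs

set_option autoImplicit false
set_option Elab.async false
set_option maxRecDepth 100000
set_option linter.all false

namespace Cfsg.Agent.TcData.Suz.Ch

open Cfsg.Spor Cfsg.Agent.Lib.TcFacts Cfsg.Agent.Lib.TcBits Cfsg.Agent.Lib.TcPres Cfsg.Agent.Lib.TcChain Cfsg.Spor.Suz Cfsg.Agent.TcData.Suz Cfsg.Agent.TcData.Suz.I1782

theorem hW1 : ∀ t ∈ S2, ∀ a ∈ W t, a.1 ∈ S1 := by decide +kernel

theorem heq1 : ∀ t ∈ S2, ∀ j, j < 11 →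
    wordApply (sgnProg pL) ((t, false) :: W t) (slice 11 j) = slice 11 j := by decide +kernel

theorem hfx1 : ∀ t ∈ S2, progApply (pL t) (2 ^ 1) = 2 ^ 1 := by decide +kernel

/-- An orbit. -/
def O1 : ℕ := nat_lit 0xc7ff80df3ffffffffff80ffffffffff7fff7fb1147fdff2ce7fdffffffffffffffffffffffffff987e18dffffbffffffffffffff7fe7e03f27c31757ffb73fff1c01c7dda79bf3ffffffffffffffffffffff8637e19ffeffdffffffffffffff8fc3f01f9ee3b8b1ffebf3bfffc0c03dc6fb2ffd9d7fffffffffffffff867fc5ff9fffffffffff187801fb8b8b9fe33afff30062b8bbdafffffffffe2fcbacfffffffdb8001c51772dafc6002eeeffffffcb96b3ffffe580045bbbbb00777ffffe596b7fffd802eee0effff2dbfff85dc6fff7fff96effffff7ffffffffffe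

theorem hgrow1 : growLN pL S1 12 (2 ^ 1) = O1 := by decide +kernel

theorem hc1 : sumRange O1.testBit 11 0 = 1365 := by decide +kernel

theorem lv1 (h : Nat.card (Gp pL S1) ≠ 0) :
    Nat.card (Gp pL S2) ≠ 0 ∧ 1365 * Nat.card (Gp pL S2) ≤ Nat.card (Gp pL S1) :=
  level_step hvp S1 S2 W hW1 heq1 hfx1 hgrow1 hc1 h

end Cfsg.Agent.TcData.Suz.Ch
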