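import Mathlib
import Cfsg.Agent.TcData.Suz.Ch.Defs

set_option autoImplicit false
set_option Elab.async false
set_option maxRecDepth 100000
set_option linter.all false

namespace Cfsg.Agent.TcData.Suz.Ch

open Cfsg.Spor Cfsg.Agent.Lib.TcFacts Cfsg.Agent.Lib.TcBits Cfsg.Agent.Lib.TcPres Cfsg.Agent.Lib.TcChain Cfsg.Spor.Suz Cfsg.Agent.TcData.Suz Cfsg.Agent.TcData.Suz.I1782

theorem hW2 : ∀ t ∈ S3, ∀ a ∈ W t, a.1 ∈ S2 := by decide +kernel

theorem heq2 : ∀ t ∈ S3, ∀ j, j < 11 →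
    wordApply (sgnProg pL) ((t, false) :: W t) (slice 11 j) = slice 11 j := by decide +kernel

theorem hfx2 : ∀ t ∈ S3, progApply (pL t) (2 ^ 2) = 2 ^ 2 := by decide +kernel

/-- An orbit. -/
def O2 : ℕ := nat_lit 0x6f00021fefbffffff8033f7fffffe77fe3fa1043ec170023fdfff5fffff7ffffffffffffffff983a0809ff98fffffffffffffd7fc1a00723c10703ffb03bbf040005dca48be3cfefffffffffffffffffff82026005fe7e50ffffffffffffd0f8090038ee1b8803febe3a7ffc0002dc63b21381d2ffdffffffffffff8017c07f8687fffffff81808017b8b8803e13a5ff100620880823c3ffffffe03c8a439fffff998001c41010423c200200021bfffc89080efffe48004400808000001bffe410817ffc0020000007ff2007ff040401ff07fb9020fefe70bff9dfefffc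

theorem hgrow2 : growLN pL S2 7 (2 ^ 2) = O2 := by decide +kernel

theorem hc2 : sumRange O2.testBit 11 0 = 1024 := by decide +kernel

theorem lv2 (h : Nat.card (Gp pL S2) ≠ 0) :
    Nat.card (Gp pL S3) ≠ 0 ∧ 1024 * Nat.card (Gp pL S3) ≤ Nat.card (Gp pL S2) :=
  level_step hvp S2 S3 W hW2 heq2 hfx2 hgrow2 hc2 h

end Cfsg.Agent.TcData.Suz.Ch
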