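import Mathlib
import Cfsg.Agent.TcData.Suz.Ch.Defs

set_option autoImplicit false
set_option Elab.async false
set_option maxRecDepth 100000
set_option linter.all false

namespace Cfsg.Agent.TcData.Suz.Ch

open Cfsg.Spor Cfsg.Agent.Lib.TcFacts Cfsg.Agent.Lib.TcBits Cfsg.Agent.Lib.TcPres Cfsg.Agent.Lib.TcChain Cfsg.Spor.Suz Cfsg.Agent.TcData.Suz Cfsg.Agent.TcData.Suz.I1782

theorem hW3 : ∀ t ∈ S4, ∀ a ∈ W t, a.1 ∈ S3 := by decide +kernel

theorem heq3 : ∀ t ∈ S4, ∀ j, j < 11 →
    wordApply (sgnProg pL) ((t, false) :: W t) (slice 11 j) = slice 11 j := by decide +kernel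

theorem hfx3 : ∀ t ∈ S4, progApply (pL t) (2 ^ 160) = 2 ^ 160 := by decide +kernel

/-- An orbit. -/
def O3 : ℕ := nat_lit 0x40000000080001ee060000000000000000010000000100004180815c80868300000000000300177281e8bfd9c01000000600010000000000000000004000000000020019450884644a440000000000000400364103fd1589400000003800080000000000000000000000000100000400244a13084ba000000000001223cc4480000001000000040000001000000000000004a50b8000000003694d808000000000000000000000002a380000003094000000000000000000288000001088000000000010000000000000000000000000000000000000000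

theorem hgrow3 : growLN pL S3 9 (2 ^ 160) = O3 := by decide +kernel

theorem hc3 : sumRange O3.testBit 11 0 = 180 := by decide +kernel

theorem lv3 (h : Nat.card (Gp pL S3) ≠ 0) :
    Nat.card (Gp pL S4) ≠ 0 ∧ 180 * Nat.card (Gp pL S4) ≤ Nat.card (Gp pL S3) :=
  level_step hvp S3 S4 W hW3 heq3 hfx3 hgrow3 hc3 h

end Cfsg.Agent.TcData.Suz.Ch
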